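import Groth.Agent.Lib.ProperFormalH7.RqIso
import Groth.Agent.Lib.SiteRlim16.RF
import Groth.Agent.Lib.DerTrunc.Basic

/-!
Cohomological bounds for derived functors on bounded objects.
-/

set_option autoImplicit false
set_option linter.unusedSectionVars false
set_option linter.style.haveILetI false
set_option backward.isDefEq.respectTransparency false
set_option backward.isDefEq.respectTransparency.types false

universe w w₁ w' v v' u u'

open CategoryTheory CategoryTheory.Limits CategoryTheory.Pretriangulated
open CategoryTheory.Triangulated DerivedCategory.TStructure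

namespace Groth.Agent.RFBd9

variable {D : Type u'} [Category.{v'} D] [Abelian D] [HasExt.{w'} D] [HasDerivedCategory.{w₁} D]
  {A : Type u} [Category.{v} A] [Abelian A] [EnoughInjectives A] [HasDerivedCategory.{w} A]
  {R : A ⥤ D} [R.Additive] {RF : DerivedCategory A ⥤ DerivedCategory D}
  (α : R.mapHomotopyCategory (ComplexShape.up ℤ) ⋙ DerivedCategory.Qh ⟶ DerivedCategory.Qh ⋙ RF)
  [RF.IsRightDerivedFunctor α (HomotopyCategory.quasiIso A (ComplexShape.up ℤ))]
  (hk : KInjLib.EnoughKInj A)

include α hk in
/-- The derived functor of a single object has no negative cohomology. -/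
theorem isZero_single_neg (Y : A) (q : ℤ) (hq : q < 0) :
    IsZero ((DerivedCategory.homologyFunctor D q).obj (RF.obj ((DerivedCategory.singleFunctor A 0).obj Y))) := by
  let I := injectiveResolution Y
  haveI := ProperFormalH7.isIso_αQ_res α hk I
  haveI : IsIso (DerivedCategory.Q.map I.ι') := (DerivedCategory.isIso_Q_map_iff_quasiIso A I.ι').2 inferInstance
  let e := (DerivedCategory.homologyFunctor D q).mapIso
      (RF.mapIso (asIso (DerivedCategory.Q.map I.ι')) ≪≫ (asIso ((SitePAdj.αQ α).app I.cochainComplex)).symm) ≪≫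
    (DerivedCategory.homologyFunctorFactors D q).app _
  refine IsZero.of_iso ?_ e
  exact ShortComplex.isZero_homology_of_isZero_X₂ _
    (R.map_isZero (I.cochainComplex.isZero_of_isStrictlyGE 0 q hq))

variable {P : A → Prop} (hP : ∀ {M N : A}, (M ≅ N) → P M → P N) (N : ℕ)
  (hR : ∀ Y : A, P Y → ∀ p : ℕ, N ≤ p → IsZero ((R.rightDerived p).obj Y))

include α hk hP hR in
/-- Objects concentrated in `[c, c + d - 1]`. -/
theorem isZero_bdd (i : ℤ) : ∀ (d : ℕ) (c : ℤ) (E : DerivedCategory A), E.IsGE c → E.IsLE (c + d - 1) →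
    (∀ q, P ((DerivedCategory.homologyFunctor A q).obj E)) → (i < c ∨ c + d - 2 + N < i) →
      IsZero ((DerivedCategory.homologyFunctor D i).obj (RF.obj E))
  | 0, c, E, hge, hle, _, _ => by
    obtain ⟨_, _⟩ := SiteRlim.exists_commShift_isTriangulated_map α hk
    haveI : E.IsLE (c - 1) := by simpa using hle
    haveI := hge
    have h0 : IsZero E := (IsZero.iff_id_eq_zero E).2 (t.zero (𝟙 E) (c - 1) c (by omega))
    exact Functor.map_isZero _ (RF.map_isZero h0)
  | d + 1, c, E, hge, hle, hh, hi => by
    obtain ⟨_, _⟩ := SiteRlim.exists_commShift_isTriangulated_map α hk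
    haveI := hle
    haveI : DerivedCategory.TStructure.t.IsGE E c := hge
    have hπ := fun q (hq : c + 1 ≤ q) => DerTrunc.isIso_homology_truncGEπ E (c + 1) q hq
    haveI h₁ : DerivedCategory.IsLE ((t.truncLT (c + 1)).obj E) c := t.isLE_truncLT_obj E (c + 1) c le_rfl
    haveI h₁' : DerivedCategory.IsGE ((t.truncLT (c + 1)).obj E) c :=
      (inferInstance : t.IsGE ((t.truncLT (c + 1)).obj E) c)
    haveI h₂ : DerivedCategory.IsGE ((t.truncGE (c + 1)).obj E) (c + 1) :=
      (inferInstance : t.IsGE ((t.truncGE (c + 1)).obj E) (c + 1))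
    let T := (t.triangleLTGE (c + 1)).obj E
    have hT' := RF.map_distinguished T (t.triangleLTGE_distinguished (c + 1) E)
    refine (DerivedCategory.HomologySequence.exact₂ (RF.mapTriangle.obj T) hT' i).isZero_of_both_zeros
      (IsZero.eq_of_src ?_ _ _) (IsZero.eq_of_tgt ?_ _ _)
    · haveI := DerTrunc.isIso_homology_truncLTι E (c + 1) c (lt_add_one c)
      let W := (t.truncLT (c + 1)).obj E
      haveI : DerivedCategory.IsGE (W⟦c⟧) 0 := DerivedCategory.TStructure.t.isGE_shift W c c 0 (by simp)
      haveI : DerivedCategory.IsLE (W⟦c⟧) 0 := DerivedCategory.TStructure.t.isLE_shift W c c 0 (by simp)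
      obtain ⟨Y, ⟨e⟩⟩ := DerivedCategory.exists_iso_singleFunctor_obj_of_isGE_of_isLE (W⟦c⟧) 0
      let eY : Y ≅ (DerivedCategory.homologyFunctor A c).obj W :=
        ((DerivedCategory.singleFunctorCompHomologyFunctorIso A 0).app Y).symm ≪≫
          ((DerivedCategory.homologyFunctor A 0).mapIso e).symm ≪≫
          (((DerivedCategory.homologyFunctor A 0).shiftIso c 0 c (add_zero c)).app W)
      have hY : P Y := hP (eY ≪≫ asIso ((DerivedCategory.homologyFunctor A c).map ((t.truncLTι (c + 1)).app E))).symm
        (hh c)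
      let e' : W ≅ ((DerivedCategory.singleFunctor A 0).obj Y)⟦-c⟧ :=
        ((shiftEquiv (DerivedCategory A) c).unitIso.app W) ≪≫ (shiftFunctor _ (-c)).mapIso e
      refine IsZero.of_iso ?_ ((DerivedCategory.homologyFunctor D i).mapIso
        (RF.mapIso e' ≪≫ (RF.commShiftIso (-c)).app _) ≪≫
        ((DerivedCategory.homologyFunctor D 0).shiftIso (-c) i (-c + i) rfl).app _)
      by_cases hq : -c + i < 0
      · exact isZero_single_neg α hk Y _ hq
      · obtain ⟨p, hp⟩ := Int.eq_ofNat_of_zero_le (not_lt.1 hq)
        rw [show (-c + i) = (p : ℤ) from hp]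
        exact (hR Y hY p (by push_cast at hi; omega)).of_iso
          ((ProperFormalH7.homologySingleIso α hk p).app Y)
    · refine isZero_bdd i d (c + 1) _ h₂ ((DerivedCategory.isLE_iff _ _).2 fun q hq => ?_) (fun q => ?_)
        (by push_cast at hi; omega)
      · haveI := hπ q (by omega)
        exact (DerivedCategory.isZero_of_isLE E (c + (d + 1 : ℕ) - 1) q (by push_cast; omega)).of_iso
          (asIso ((DerivedCategory.homologyFunctor _ q).map ((t.truncGEπ (c + 1)).app E))).symm
      · by_cases hq : c + 1 ≤ q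
        · haveI := hπ q hq
          exact hP (asIso ((DerivedCategory.homologyFunctor _ q).map ((t.truncGEπ (c + 1)).app E))) (hh q)
        · have hz := DerivedCategory.isZero_of_isGE ((t.truncGE (c + 1)).obj E) (c + 1) q (by omega)
          have hz' := DerivedCategory.isZero_of_isGE E c (c - 1) (by omega)
          exact hP (hz'.iso hz) (hh (c - 1))

end Groth.Agent.RFBd9
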